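import Cfsg.Agent.H92.GG.Mult
import Cfsg.Agent.Mrg.ParSys.Core

/-!
# Gelfand–Graev characters are multiplicity free, any characteristic (S4884, helper92)

As `Mult.lean`, but instead of `T` having no involutions: a pinning `e i ∈ X α_i`, `n i ∈ X (-α_i) (e i) X (-α_i)`, the `n i`
satisfy the braid relations exactly, and (`pin`) `g φ(·) g⁻¹ : X α_i → X α_j` maps `e i` to `e j` if it preserves `ψ`.

* `phi_eq` : `φ s = s` for the element `s` over `w_K` with `ψ (s φ(·) s⁻¹) = ψ`;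
* `fix_pin` : `s φ(·) s⁻¹` fixes the elements of `N` compatible with `ψ`;
* `mult_le_one_pin'`, `mult_le_one_pin`.
-/

set_option autoImplicit false
set_option linter.unusedSectionVars false

open Cfsg

namespace Cfsg.Agent.H92.GG

open CoxeterSystem Cfsg.Agent.ChevalleyStructure.CoxeterGeom Cfsg.Agent.Tits.Roots Cfsg.Agent.Tits.Core
  Cfsg.Agent.Tits.Exchange Cfsg.Agent.Nodes.Reps Cfsg.Agent.Nodes.BNOf Cfsg.Agent.Nodes.StabComb
  Cfsg.Agent.Nodes.Bruhat Cfsg.Agent.Nodes.OppDec Cfsg.Agent.Nodes.LeviDec Cfsg.Agent.H53.HC Cfsg.Agent.H641.Gow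

variable {I W Y : Type*} [Fintype I] [DecidableEq I] [Group W] [Group Y] {M : CoxeterMatrix I}
  {cs : CoxeterSystem M W} {A : I → I → ℤ} {h : IsCartan M A} {p : ℕ} {T : Subgroup Y} {n : I → Y}
  {X : (I → ℤ) → Subgroup Y}

/-- `w α_i = α_j` implies `w s_i = s_j w`. -/
theorem conj_simple {w : W} {i j : I} (he : rep cs h w (sr i) = sr j) :
    w * cs.simple i = cs.simple j * w := by
  have h0 : 0 ≤ rep cs h w (sr i) := by rw [he]; exact sr_nonneg j
  have h1 : cs.length w < cs.length (w * cs.simple i) := (lt_iff' cs h w i).2 h0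
  have h2 : cs.length w⁻¹ < cs.length (w⁻¹ * cs.simple j) := by
    refine (lt_iff' cs h w⁻¹ j).2 ?_
    change 0 ≤ rep cs h w⁻¹ (sr j)
    rw [← he, rep_inv_apply]
    exact sr_nonneg i
  have h3 : cs.length (cs.simple j * w) = cs.length w + 1 := by
    rw [← cs.length_inv w, ← cs.length_inv (cs.simple j * w), mul_inv_rev, inv_simple]
    have := cs.length_mul_simple w⁻¹ j
    omega
  have h4 : cs.length (w * cs.simple i) = cs.length w + 1 := by
    have := cs.length_mul_simple w i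
    omega
  rcases Cfsg.Agent.Tits.Exchange.fold cs h3 h4 with h5 | h5
  · exfalso
    have h6 : ¬ cs.length (cs.simple j * w) < cs.length (cs.simple j * w * cs.simple i) := by
      intro h7
      have h8 := (lt_iff' cs h (cs.simple j * w) i).1 h7
      change 0 ≤ rep cs h (cs.simple j * w) (sr i) at h8
      rw [rep_mul_apply, he, rep_simple_sr] at h8
      exact (isRoot_sr cs h j).not_pos_neg (sr_nonneg j) (neg_nonneg.1 h8)
    omega
  · exact h5.symm

/-- `w α_i = -α_j` implies `w s_i = s_j w`. -/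
theorem conj_simple_neg {w : W} {i j : I} (he : -rep cs h w (sr i) = sr j) :
    w * cs.simple i = cs.simple j * w := by
  have h1 : rep cs h (w * cs.simple i) (sr i) = sr j := by
    rw [rep_mul_apply, rep_simple_sr, map_neg, he]
  have h2 := conj_simple h1
  rw [mul_assoc, simple_mul_simple_self, mul_one, ← mul_assoc] at h2
  have h3 := congrArg (fun z => z * cs.simple i) h2
  rw [mul_assoc (cs.simple j * w), simple_mul_simple_self, mul_one] at h3
  exact h3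

section

variable (R : RGD cs h p T n X)

include R

/-- uniqueness of `μ`-elements -/
theorem mu_eq [Finite W] {i : I} {e a b a' b' m m' : Y} (ha : a ∈ X (-sr i)) (hb : b ∈ X (-sr i))
    (ha' : a' ∈ X (-sr i)) (hb' : b' ∈ X (-sr i)) (hm : Rp cs R.nsys (cs.simple i) m)
    (hm' : Rp cs R.nsys (cs.simple i) m') (e1 : m = a * e * b) (e2 : m' = a' * e * b') : m = m' := by
  have ht : m⁻¹ * m' ∈ T := hm.unique hm'
  have h1 : m⁻¹ * (a * a'⁻¹) * m ∈ X (sr i) := by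
    have := R.conj_mem' hm (isRoot_sr cs h i).neg (mul_mem ha (inv_mem ha'))
    rwa [map_neg, inv_simple, rep_simple_sr, neg_neg] at this
  have h2 : (m⁻¹ * (a * a'⁻¹) * m) * (m⁻¹ * m') = b⁻¹ * b' := by
    rw [e1, e2]; group
  have h3 : b⁻¹ * b' ∈ RGD.B cs h T X := by
    rw [← h2]
    exact mul_mem (RGD.X_le_B (isRoot_sr cs h i) (sr_nonneg i) h1) (RGD.T_le_B ht)
  have h4 := eq_one_of_mem_UN_of_mem_B R
    (X_le_UN (isRoot_sr cs h i).neg (neg_nonpos.2 (sr_nonneg i)) (mul_mem (inv_mem hb) hb')) h3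
  rw [h4] at h2
  have h5 : m⁻¹ * (a * a'⁻¹) * m = (m⁻¹ * m')⁻¹ := eq_inv_of_mul_eq_one_left h2
  have h6 : m⁻¹ * (a * a'⁻¹) * m ∈ X (sr i) ⊓ T := ⟨h1, by rw [h5]; exact T.inv_mem ht⟩
  rw [X_inf_T R (isRoot_sr cs h i), Subgroup.mem_bot] at h6
  rw [h6, one_mul] at h2
  exact (inv_mul_eq_one.1 h2)

end

/-- A pinning for the nodes of `J`: `n i` is the `μ`-element of `e i`. -/
structure Pin (cs : CoxeterSystem M W) (h : IsCartan M A) (n : I → Y) (X : (I → ℤ) → Subgroup Y) (J : Set I)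
    (e : I → Y) : Prop where
  mem : ∀ i ∈ J, e i ∈ X (sr i)
  mu : ∀ i ∈ J, ∃ a ∈ X (-sr i), ∃ b ∈ X (-sr i), n i = a * e i * b
  braid : ∀ i j, i ≠ j → M i j ≠ 0 → ((Cfsg.Agent.ParSys.alt i j (M i j)).map n).prod =
    ((Cfsg.Agent.ParSys.alt j i (M i j)).map n).prod

section

variable (R : RGD cs h p T n X) {φ : Y → Y} (F : Anti cs h T X φ) {K : Set I} {v : W} (hv : IsLongest cs K v) {s : Y}
  (hs : Rp cs R.nsys v s)

include R

theorem rp_word (ω : List I) : Rp cs R.nsys (cs.wordProd ω) (ω.map n).prod := by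
  induction ω with
  | nil => rw [wordProd_nil]; exact rp_one
  | cons i ω ih =>
    rw [wordProd_cons, List.map_cons, List.prod_cons]
    exact (rp_simple cs R.nsys i).mul ih

include F

theorem ff_n [Finite W] (hs : Rp cs R.nsys v s) {J : Set I} {e : I → Y} (P : Pin cs h n X J e) {i k : I}
    (hi : i ∈ J) (hk : k ∈ J) (hik : -rep cs h v (sr i) = sr k) (hfe : ff φ s (e i) = e k) : ff φ s (n i) = n k := by
  obtain ⟨a, ha, b, hb, e1⟩ := P.mu i hi
  obtain ⟨a', ha', b', hb', e2⟩ := P.mu k hk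
  have hroot : ∀ {x : Y}, x ∈ X (-sr i) → ff φ s x ∈ X (-sr k) := by
    intro x hx
    have := ff_root R F hs (isRoot_sr cs h i).neg hx
    rwa [map_neg, neg_neg, ← neg_neg (rep cs h v (sr i)), hik] at this
  have h1 : Rp cs R.nsys (cs.simple k) (ff φ s (n i)) := by
    have h2 := ff_rp R F hs (rp_simple cs R.nsys i)
    rwa [inv_simple, conj_simple_neg hik, mul_inv_cancel_right] at h2
  refine mu_eq R (hroot hb) (hroot ha) ha' hb' h1 (rp_simple cs R.nsys k) (e := e k) ?_ e2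
  rw [e1, ff_mul F, ff_mul F, hfe]
  group

include hv hs

/-- **`φ s = s`.** -/
theorem phi_eq [Finite W] {J : Set I} (hKJ : K ⊆ J) {e : I → Y} (P : Pin cs h n X J e)
    (hfe : ∀ i ∈ K, ∀ k, -rep cs h v (sr i) = sr k → ff φ s (e i) = e k) : φ s = s := by
  classical
  -- the diagram involution of `K`
  have hst : ∀ i, ∃ k, i ∈ K → k ∈ K ∧ -rep cs h v (sr i) = sr k := by
    intro i
    by_cases hi : i ∈ K
    · obtain ⟨k, hk, e⟩ := neg_longest_sr (h := h) hv hi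
      exact ⟨k, fun _ => ⟨hk, e⟩⟩
    · exact ⟨i, fun h1 => absurd h1 hi⟩
  choose st hst using hst
  obtain ⟨ω, hωK, hωr, hω⟩ := exists_reduced_of_mem_WJ cs hv.1
  have hvv : v * v = 1 := hv.mul_self
  have hvi : v⁻¹ = v := hv.inv_eq
  -- the image of a word
  have hw : ∀ ω : List I, (∀ i ∈ ω, i ∈ K) → ff φ s (ω.map n).prod = (((ω.map st).reverse).map n).prod ∧
      cs.wordProd (ω.map st).reverse = v * (cs.wordProd ω)⁻¹ * v⁻¹ := by
    intro ω hωK
    induction ω with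
    | nil =>
      constructor
      · simp only [List.map_nil, List.prod_nil, List.reverse_nil]
        unfold ff
        rw [F.one]; group
      · simp
    | cons i ω ih =>
      obtain ⟨ih1, ih2⟩ := ih fun j hj => hωK j (by simp [hj])
      have hi := hωK i (by simp)
      obtain ⟨hk, e⟩ := hst i hi
      constructor
      · rw [List.map_cons, List.prod_cons, ff_mul F, ih1, ff_n R F hs P (hKJ hi) (hKJ hk) e (hfe i hi _ e)]
        simp
      · rw [List.map_cons, List.reverse_cons, wordProd_append, ih2, wordProd_cons, wordProd_cons, wordProd_nil, mul_one,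
          mul_inv_rev, inv_simple]
        have h1 := conj_simple_neg e
        calc v * (cs.wordProd ω)⁻¹ * v⁻¹ * cs.simple (st i) = v * (cs.wordProd ω)⁻¹ * v⁻¹ * (cs.simple (st i) * v) * v⁻¹ := by
              group
          _ = v * ((cs.wordProd ω)⁻¹ * cs.simple i) * v⁻¹ := by rw [← h1]; group
  obtain ⟨h1, h2⟩ := hw ω hωK
  have h3 : cs.wordProd (ω.map st).reverse = cs.wordProd ω := by
    rw [h2, hω, hvi, hvv, one_mul]
  have hred : cs.IsReduced (ω.map st).reverse := by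
    unfold CoxeterSystem.IsReduced at hωr ⊢
    rw [h3, hωr, List.length_reverse, List.length_map]
  have h4 := Cfsg.Agent.ParSys.Words.matsumoto (cs := cs) n P.braid hred hωr h3
  rw [h4] at h1
  -- `m = s t`
  obtain ⟨m, hm⟩ : ∃ m, m = (ω.map n).prod := ⟨_, rfl⟩
  rw [← hm] at h1
  have hmR : Rp cs R.nsys v m := by rw [hm, ← hω]; exact rp_word R ω
  have ht : s⁻¹ * m ∈ T := hs.unique hmR
  obtain ⟨t, htt⟩ : ∃ t, t = s⁻¹ * m := ⟨_, rfl⟩
  rw [← htt] at ht
  have hst2 : m = s * t := by rw [htt]; group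
  have h5 : ff φ s m = s * (t * φ s) * s⁻¹ := by
    unfold ff
    rw [hst2, F.mul, F.tor t ht]
  rw [h1, hst2] at h5
  -- `s t = s t φ(s) s⁻¹`
  have h6 : s * t = s * t * (φ s * s⁻¹) := by
    conv_lhs => rw [h5]
    group
  have h7 : φ s * s⁻¹ = 1 := (mul_eq_left.1 h6.symm)
  exact mul_inv_eq_one.1 h7

end

/-- `g φ(·) g⁻¹ : X α_i → X α_j` maps `e i` to `e j` if it preserves `ψ`. -/
def PinPsi (R : RGD cs h p T n X) (φ : Y → Y) (J : Set I) (e : I → Y) (ψ : Y → ℂˣ) : Prop :=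
  ∀ i ∈ J, ∀ j ∈ J, ∀ (w : W) (g : Y), w ∈ WJ cs J → Rp cs R.nsys w g → -rep cs h w (sr i) = sr j →
    (∀ x ∈ X (sr i), ψ (g * φ x * g⁻¹) = ψ x) → g * φ (e i) * g⁻¹ = e j

section

variable (R : RGD cs h p T n X) {φ : Y → Y} (F : Anti cs h T X φ) {J : Set I}

include F

/-- **`f` fixes the compatible elements of `N`.** -/
theorem fix_pin [Finite W] {ψ : Y → ℂˣ} (N : Nondeg cs h X J ψ) {e : I → Y} (P : Pin cs h n X J e)
    (Q : PinPsi R φ J e ψ) {v : W} (hv : IsLongest cs J v) {s : Y} (hs : Rp cs R.nsys v s)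
    (hf : ∀ u ∈ UJ cs h X J, ψ (ff φ s u) = ψ u) {w : W}
    (hw : w ∈ WJ cs J) {g : Y} (hg : Rp cs R.nsys w g)
    (hcomp : ∀ i ∈ J, 0 ≤ rep cs h w (sr i) → ∀ x ∈ X (sr i), ψ (g * x * g⁻¹) = ψ x) : ff φ s g = g := by
  classical
  have hvv : v * v = 1 := hv.mul_self
  have hvi : v⁻¹ = v := hv.inv_eq
  -- `φ s = s`
  have hfe : ∀ i ∈ J, ∀ k, -rep cs h v (sr i) = sr k → ff φ s (e i) = e k := by
    intro i hi k hk
    have hkJ : k ∈ J := by
      obtain ⟨l, hl, el⟩ := neg_longest_sr (h := h) hv hi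
      have h1 : sr (I := I) l = sr k := by rw [← el, hk]
      by_contra hkJ
      have h2 := congrFun h1 k
      rw [sr_self, sr_ne (fun e => hkJ (by rw [e]; exact hl))] at h2
      exact one_ne_zero h2.symm
    exact Q i hi k hkJ v s hv.1 hs hk fun x hx => hf x (X_le_UJ (sr_mem_PosJ hi) hx)
  have hφs : φ s = s := phi_eq R F hv hs (subset_refl J) P hfe
  -- `w = w_J w_K`
  have hsimple : ∀ i ∈ J, 0 ≤ rep cs h w (sr i) → ∃ k, rep cs h w (sr i) = sr k := by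
    intro i hi h0
    by_contra hcon
    push Not at hcon
    obtain ⟨x, hx, hx1⟩ := N.simple i hi
    have h1 : g * x * g⁻¹ ∈ X (rep cs h w (sr i)) := R.conj_mem hg (isRoot_sr cs h i) hx
    have h2 : rep cs h w (sr i) ∈ PosJ cs h J :=
      ⟨(isRoot_sr cs h i).act w, h0, fun k hk => supp_rep hw hi hk⟩
    exact hx1 (by rw [← hcomp i hi h0 x hx, N.high _ h2 hcon _ h1])
  obtain ⟨u, hu⟩ := exists_isLongest cs {i | i ∈ J ∧ 0 ≤ rep cs h w (sr i)}
  have hwe := eq_longest_mul hw hsimple hv hu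
  obtain ⟨K, hK⟩ : ∃ K : Set I, K = {i | i ∈ J ∧ 0 ≤ rep cs h w (sr i)} := ⟨_, rfl⟩
  rw [← hK] at hu
  have hKJ : K ⊆ J := fun i hi => by rw [hK] at hi; exact hi.1
  have huu : u * u = 1 := hu.mul_self
  have hui : u⁻¹ = u := hu.inv_eq
  -- `γ = s⁻¹ g` represents `w_K`
  obtain ⟨γ, hγ⟩ : ∃ γ, γ = s⁻¹ * g := ⟨_, rfl⟩
  have hγR : Rp cs R.nsys u γ := by
    have h1 := hs.inv.mul hg
    have e1 : v⁻¹ * w = u := by rw [hwe, inv_mul_cancel_left]
    rwa [e1, ← hγ] at h1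
  have hgs : g = s * γ := by rw [hγ]; group
  obtain ⟨s', hs'⟩ : ∃ s', s' = (φ γ)⁻¹ := ⟨_, rfl⟩
  have hs'R : Rp cs R.nsys u s' := by
    have h1 := (F.rp R hγR).inv
    rwa [inv_inv, ← hs'] at h1
  have hff : ∀ x, ff φ s' x = φ (γ * x * γ⁻¹) := by
    intro x
    unfold ff
    rw [hs', F.mul, F.mul, F.inv]; group
  have hfe' : ∀ i ∈ K, ∀ k, -rep cs h u (sr i) = sr k → ff φ s' (e i) = e k := by
    intro i hi k hk
    have hi' : i ∈ J ∧ 0 ≤ rep cs h w (sr i) := by rw [hK] at hi; exact hi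
    have hkJ : k ∈ K := by
      obtain ⟨l, hl, el⟩ := neg_longest_sr (h := h) hu hi
      have h1 : sr (I := I) l = sr k := by rw [← el, hk]
      by_contra hkJ
      have h2 := congrFun h1 k
      rw [sr_self, sr_ne (fun e => hkJ (by rw [e]; exact hl))] at h2
      exact one_ne_zero h2.symm
    refine Q i hi'.1 k (hKJ hkJ) u s' (WJ_mono' hKJ hu.1) hs'R hk fun x hx => ?_
    change ψ (ff φ s' x) = ψ x
    have hyX : ff φ s' x ∈ X (sr k) := by
      have := ff_root R F hs'R (isRoot_sr cs h i) hx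
      rwa [hk] at this
    have h1 := hf _ (X_le_UJ (cs := cs) (h := h) (sr_mem_PosJ (hKJ hkJ)) hyX)
    rw [← h1, ← hcomp i hi'.1 hi'.2 x hx]
    congr 1
    rw [hff]
    unfold ff
    rw [F.invo, hgs]; group
  have hφs' : φ s' = s' := phi_eq R F hu hs'R hKJ P hfe'
  have hφγ : φ γ = γ := by
    rw [hs', F.inv, F.invo] at hφs'
    exact (inv_injective hφs').symm
  unfold ff
  rw [hgs, F.mul, hφs, hφγ]; group

/-- **Multiplicity one** (functions on the whole group). -/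
theorem mult_le_one_pin' [Finite W] [Fintype Y] {ψ : Y → ℂˣ} (N : Nondeg cs h X J ψ) {e : I → Y}
    (P : Pin cs h n X J e) (Q : PinPsi R φ J e ψ)
    (htr : ∀ ψ' : Y → ℂˣ, Nondeg cs h X J ψ' → ∃ t ∈ T, ∀ u ∈ UJ cs h X J, ψ' u = ψ (t * u * t⁻¹))
    [Fintype ↥(LJ cs h T X J)] [Fintype ↥(UJ cs h X J)] {χ : ↥(LJ cs h T X J) → ℂ} (hχ : IsIrrCharacter _ χ) :
    classInner (fun u : ↥(UJ cs h X J) => χ ⟨u, BJ_le_LJ (UJ_le_BJ u.2)⟩) (fun u => (ψ (u : Y) : ℂ)) = 0 ∨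
      classInner (fun u : ↥(UJ cs h X J) => χ ⟨u, BJ_le_LJ (UJ_le_BJ u.2)⟩) (fun u => (ψ (u : Y) : ℂ)) = 1 :=
  mult_of_fix R F N (fun _ _ hv hsR hf _ _ hw hm' hcomp => fix_pin R F N P Q hv hsR hf hw hm' hcomp) htr hχ

/-- **Multiplicity one**, linear characters of `U_J` as homomorphisms. -/
theorem mult_le_one_pin [Finite W] [Fintype Y] (ψ : ↥(UJ cs h X J) →* ℂˣ)
    (hhigh : ∀ a (ha : a ∈ PosJ cs h J), (∀ i, a ≠ sr i) → ∀ x (hx : x ∈ X a), ψ ⟨x, X_le_UJ ha hx⟩ = 1)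
    (hsimple : ∀ i (hi : i ∈ J), ∃ x, ∃ hx : x ∈ X (sr i), ψ ⟨x, X_le_UJ (sr_mem_PosJ hi) hx⟩ ≠ 1)
    {e : I → Y} (P : Pin cs h n X J e) (Q : PinPsi R φ J e (ext _ ψ))
    (htr : ∀ ψ' : Y → ℂˣ, Nondeg cs h X J ψ' → ∃ t ∈ T, ∀ u ∈ UJ cs h X J, ψ' u = ext _ ψ (t * u * t⁻¹))
    [Fintype ↥(LJ cs h T X J)] [Fintype ↥(UJ cs h X J)] {χ : ↥(LJ cs h T X J) → ℂ} (hχ : IsIrrCharacter _ χ) :
    classInner (fun u : ↥(UJ cs h X J) => χ ⟨u, BJ_le_LJ (UJ_le_BJ u.2)⟩) (fun u => (ψ u : ℂ)) = 0 ∨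
      classInner (fun u : ↥(UJ cs h X J) => χ ⟨u, BJ_le_LJ (UJ_le_BJ u.2)⟩) (fun u => (ψ u : ℂ)) = 1 := by
  have h1 := mult_le_one_pin' R F (nondeg_ext ψ hhigh hsimple) P Q htr hχ
  have e : (fun u : ↥(UJ cs h X J) => ((ext (UJ cs h X J) ψ (u : Y) : ℂˣ) : ℂ)) = fun u => (ψ u : ℂ) := by
    funext u
    rw [ext_of_mem ψ u.2]
  rwa [e] at h1

end

end Cfsg.Agent.H92.GG
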