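import Cfsg.Agent.H92.GG.Comb
import Cfsg.Agent.Nodes.ClsPair

/-!
# Anti-automorphisms exchanging opposite root groups (S4884, helper92)

`Anti` : `φ` an involutive anti-automorphism with `φ (X a) = X (-a)`, `φ = id` on `T`.
* `Anti.rp` : `φ` maps representatives of `w` to representatives of `w⁻¹`;
* `comm_of` : an element of `T` centralising `X α_i` (`i ∈ J`) centralises `L_J`.
-/

set_option autoImplicit false
set_option linter.unusedSectionVars false

namespace Cfsg.Agent.H92.GG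

open CoxeterSystem Cfsg.Agent.ChevalleyStructure.CoxeterGeom Cfsg.Agent.Tits.Roots Cfsg.Agent.Tits.Core
  Cfsg.Agent.Tits.Exchange Cfsg.Agent.Nodes.Reps Cfsg.Agent.Nodes.BNOf Cfsg.Agent.Nodes.StabComb
  Cfsg.Agent.Nodes.Bruhat Cfsg.Agent.Nodes.OppDec Cfsg.Agent.Nodes.LeviDec Cfsg.Agent.H53.HC Cfsg.Agent.H641.Gow

variable {I W Y : Type*} [Fintype I] [DecidableEq I] [Group W] [Group Y] {M : CoxeterMatrix I}
  {cs : CoxeterSystem M W} {A : I → I → ℤ} {h : IsCartan M A} {p : ℕ} {T : Subgroup Y} {n : I → Y}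
  {X : (I → ℤ) → Subgroup Y}

section

variable (R : RGD cs h p T n X)

include R

/-- an element of `T` centralising `X α_i` centralises `X (-α_i)`. -/
theorem comm_neg [Finite W] (hTc : ∀ s ∈ T, ∀ t ∈ T, Commute s t) {t : Y} (ht : t ∈ T) {i : I}
    (hc : ∀ x ∈ X (sr i), Commute t x) {u : Y} (hu : u ∈ X (-sr i)) : Commute t u := by
  by_cases hu1 : u = 1
  · rw [hu1]; exact Commute.one_right t
  obtain ⟨a, ha, s, hs, b, hb, e⟩ := R.rk1 i u hu hu1
  have hn := R.nsys.norm i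
  have ht' : (n i)⁻¹ * t * n i ∈ T := by
    have := (Subgroup.mem_normalizer_iff.1 (inv_mem hn) t).1 ht
    rwa [inv_inv] at this
  have h1 : u⁻¹ * (t * u * t⁻¹) = b⁻¹ * (((n i)⁻¹ * t * n i) * t⁻¹) * b := by
    have ea : t * a = a * t := hc a ha
    have eb : t * b = b * t := hc b hb
    have es : t * s = s * t := hTc t ht s hs
    have e1 : t * u = a * s * (t * n i) * b := by
      rw [e]
      calc t * (a * s * n i * b) = (t * a) * s * n i * b := by group
        _ = a * (t * s) * n i * b := by rw [ea]; group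
        _ = a * s * (t * n i) * b := by rw [es]; group
    have e2 : b * t⁻¹ = t⁻¹ * b := by
      rw [eq_inv_mul_iff_mul_eq, ← mul_assoc, eb, mul_inv_cancel_right]
    rw [e1, e]
    calc (a * s * n i * b)⁻¹ * (a * s * (t * n i) * b * t⁻¹) = b⁻¹ * ((n i)⁻¹ * t * n i) * (b * t⁻¹) := by group
      _ = b⁻¹ * (((n i)⁻¹ * t * n i) * t⁻¹) * b := by rw [e2]; group
  have hbB : b ∈ RGD.B cs h T X := RGD.X_le_B (isRoot_sr cs h i) (sr_nonneg i) hb
  have h2 : u⁻¹ * (t * u * t⁻¹) ∈ RGD.B cs h T X := by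
    rw [h1]
    exact mul_mem (mul_mem (inv_mem hbB) (RGD.T_le_B (mul_mem ht' (inv_mem ht)))) hbB
  have h3 : t * u * t⁻¹ ∈ X (-sr i) := by
    have h4 := R.tor _ (isRoot_sr cs h i).neg t ht
    rw [← h4]
    exact conj_mem_cj.2 hu
  have h4 := eq_one_of_mem_UN_of_mem_B R
    (X_le_UN (isRoot_sr cs h i).neg (neg_nonpos.2 (sr_nonneg i)) (mul_mem (inv_mem hu) h3)) h2
  rw [inv_mul_eq_one] at h4
  exact (mul_inv_eq_iff_eq_mul.1 h4.symm)

theorem comm_n [Finite W] (hTc : ∀ s ∈ T, ∀ t ∈ T, Commute s t) {t : Y} (ht : t ∈ T) {i : I}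
    (hc : ∀ x ∈ X (sr i), Commute t x) : Commute t (n i) := by
  obtain ⟨u, hu, hu1⟩ := exists_ne_one R i
  have h1 : n i * u * (n i)⁻¹ ∈ X (-sr i) := by
    have := R.conj_mem (rp_simple cs R.nsys i) (isRoot_sr cs h i) hu
    rwa [rep_simple_sr] at this
  have h2 : n i * u * (n i)⁻¹ ≠ 1 := by
    intro h3
    exact hu1 (mul_eq_left.1 (mul_inv_eq_one.1 h3))
  obtain ⟨a, ha, s, hs, b, hb, e⟩ := R.rk1 i _ h1 h2
  have h3 : n i = (a * s)⁻¹ * (n i * u * (n i)⁻¹) * b⁻¹ := by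
    conv_rhs => rw [e]
    group
  have h4 := comm_neg R hTc ht hc h1
  rw [h3]
  exact ((((hc a ha).mul_right (hTc t ht s hs)).inv_right).mul_right h4).mul_right (hc b hb).inv_right

/-- an element of `T` centralising `X α_i`, `i ∈ J`, centralises the representatives of `W_J` -/
theorem comm_rp [Finite W] (hTc : ∀ s ∈ T, ∀ t ∈ T, Commute s t) {J : Set I} {t : Y} (ht : t ∈ T)
    (hc : ∀ i ∈ J, ∀ x ∈ X (sr i), Commute t x) {w : W} (hw : w ∈ WJ cs J) {g : Y} (hg : Rp cs R.nsys w g) :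
    Commute t g := by
  obtain ⟨ω, hω, rfl⟩ := exists_word_of_mem_WJ cs hw
  clear hw
  induction ω generalizing g with
  | nil =>
    rw [wordProd_nil] at hg
    exact hTc t ht g hg.mem_of_one
  | cons i ω ih =>
    have hω' : ∀ j ∈ ω, j ∈ J := fun j hj => hω j (by simp [hj])
    rw [wordProd_cons] at hg
    have h1 : Rp cs R.nsys (cs.wordProd ω) ((n i)⁻¹ * g) := by
      have := (rp_simple cs R.nsys i).inv.mul hg
      rwa [inv_mul_cancel_left] at this
    have h2 := ih hω' h1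
    have h3 : g = n i * ((n i)⁻¹ * g) := by group
    rw [h3]
    exact (comm_n R hTc ht (hc i (hω i (by simp)))).mul_right h2

/-- an element of `T` centralising `X α_i`, `i ∈ J`, centralises `L_J` -/
theorem comm_LJ [Finite W] (hTc : ∀ s ∈ T, ∀ t ∈ T, Commute s t) {J : Set I} {t : Y} (ht : t ∈ T)
    (hc : ∀ i ∈ J, ∀ x ∈ X (sr i), Commute t x) {g : Y} (hg : g ∈ LJ cs h T X J) : Commute t g := by
  have h1 : LJ cs h T X J ≤ Subgroup.centralizer {t} := by
    refine sup_le (fun s hs => ?_) (RGD.Sup_le fun x hx y hy => ?_)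
    · rw [Subgroup.mem_centralizer_singleton_iff]
      exact (hTc t ht s hs).symm
    · obtain ⟨w, hw, j, hj, rfl⟩ := exists_of_mem_RootsJ hx
      obtain ⟨k, hk⟩ := exists_rp cs R.nsys w
      have ha' : k⁻¹ * y * k ∈ X (sr j) := by
        have := R.conj_mem' hk hx.1 hy
        rwa [rep_inv_apply] at this
      have e : y = k * (k⁻¹ * y * k) * k⁻¹ := by group
      have h2 := comm_rp R hTc ht hc hw hk
      rw [Subgroup.mem_centralizer_singleton_iff, e]
      exact ((h2.mul_right (hc j hj _ ha')).mul_right h2.inv_right).symm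
  exact (Subgroup.mem_centralizer_singleton_iff.1 (h1 hg)).symm

end

/-- an involutive anti-automorphism exchanging opposite root groups, trivial on `T` -/
structure Anti (cs : CoxeterSystem M W) (h : IsCartan M A) (T : Subgroup Y) (X : (I → ℤ) → Subgroup Y)
    (φ : Y → Y) : Prop where
  mul : ∀ x y, φ (x * y) = φ y * φ x
  invo : ∀ x, φ (φ x) = x
  root : ∀ a, IsRoot cs h a → ∀ x ∈ X a, φ x ∈ X (-a)
  tor : ∀ t ∈ T, φ t = t

namespace Anti

variable {φ : Y → Y} (F : Anti cs h T X φ)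

include F

theorem one : φ 1 = 1 := by
  have := F.mul 1 1
  rw [mul_one] at this
  exact (left_eq_mul.1 this)

theorem inv (x : Y) : φ x⁻¹ = (φ x)⁻¹ := by
  rw [eq_inv_iff_mul_eq_one, ← F.mul, mul_inv_cancel, F.one]

theorem injective : Function.Injective φ := fun x y e => by rw [← F.invo x, e, F.invo]

/-- the image of a subgroup -/
theorem map_Sup {S S' : Set (I → ℤ)} (hS : ∀ x ∈ S, IsRoot cs h x ∧ -x ∈ S') {x : Y} (hx : x ∈ RGD.Sup X S) :
    φ x ∈ RGD.Sup X S' := by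
  unfold RGD.Sup at hx
  induction hx using Subgroup.iSup_induction' with
  | hp i y hy => exact RGD.le_Sup (hS i.1 i.2).2 (F.root _ (hS i.1 i.2).1 _ hy)
  | h1 => rw [F.one]; exact one_mem _
  | hmul x y _ _ ha hb => rw [F.mul]; exact mul_mem hb ha

theorem map_LJ {J : Set I} {x : Y} (hx : x ∈ LJ cs h T X J) : φ x ∈ LJ cs h T X J := by
  let K : Subgroup Y :=
    { carrier := {y | φ y ∈ LJ cs h T X J}
      one_mem' := by
        change φ 1 ∈ LJ cs h T X J
        rw [F.one]; exact one_mem _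
      mul_mem' := fun {a b} (ha : φ a ∈ LJ cs h T X J) (hb : φ b ∈ LJ cs h T X J) => by
        change φ (a * b) ∈ LJ cs h T X J
        rw [F.mul]; exact mul_mem hb ha
      inv_mem' := fun {a} (ha : φ a ∈ LJ cs h T X J) => by
        change φ a⁻¹ ∈ LJ cs h T X J
        rw [F.inv]; exact inv_mem ha }
  have h1 : LJ cs h T X J ≤ K := by
    refine sup_le (fun s hs => ?_) (RGD.Sup_le fun x hx y hy => ?_)
    · change φ s ∈ LJ cs h T X J
      rw [F.tor s hs]
      exact T_le_LJ hs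
    · change φ y ∈ LJ cs h T X J
      exact X_le_LJ (RootsJ.neg hx) (F.root x hx.1 y hy)
  exact h1 hx

theorem map_GG {x : Y} (hx : x ∈ GG cs h T X) : φ x ∈ GG cs h T X := by
  rw [← LJ_univ] at hx ⊢
  exact F.map_LJ hx

/-- **representatives of `w` are mapped to representatives of `w⁻¹`.** -/
theorem rp [Finite W] (R : RGD cs h p T n X) {w : W} {g : Y} (hg : Rp cs R.nsys w g) :
    Rp cs R.nsys w⁻¹ (φ g) := by
  obtain ⟨c, hc⟩ : ∃ c, c = φ g * g := ⟨_, rfl⟩
  have hgG : g ∈ GG cs h T X := NN_le_GG R ⟨w, hg⟩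
  have hcG : c ∈ GG cs h T X := by rw [hc]; exact mul_mem (F.map_GG hgG) hgG
  -- `c` normalises the root groups
  have key : ∀ a, IsRoot cs h a → ∀ x ∈ X a, c * x * c⁻¹ ∈ X a := by
    intro a ha x hx
    have h1 : g * x * g⁻¹ ∈ X (rep cs h w a) := R.conj_mem hg ha hx
    have h2 := F.root _ (ha.act w) _ h1
    have h3 : φ (g * x * g⁻¹) = (φ g)⁻¹ * φ x * φ g := by
      rw [F.mul, F.mul, F.inv]; group
    -- `φ g (g x g⁻¹) (φ g)⁻¹ = φ (g⁻¹ φ(g x g⁻¹) g)`
    have h4 : g⁻¹ * φ (g * x * g⁻¹) * g ∈ X (-a) := by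
      have := R.conj_mem' hg (ha.act w).neg h2
      rwa [map_neg, rep_inv_apply] at this
    have h5 := F.root _ ha.neg _ h4
    have h6 : φ (g⁻¹ * φ (g * x * g⁻¹) * g) = c * x * c⁻¹ := by
      rw [F.mul, F.mul, F.invo, F.inv, hc]; group
    rw [h6, neg_neg] at h5
    exact h5
  have key' : ∀ a, IsRoot cs h a → cj c (X a) = X a := by
    intro a ha
    apply le_antisymm
    · rintro y hy
      have h1 := mem_cj.1 hy
      have h2 := key a ha _ h1
      have : c * (c⁻¹ * y * c) * c⁻¹ = y := by group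
      rwa [this] at h2
    · intro y hy
      rw [mem_cj]
      -- `φ g⁻¹ y φ g = φ (g φ(y) g⁻¹)`
      have h2 : g * φ y * g⁻¹ ∈ X (-(rep cs h w a)) := by
        have := R.conj_mem hg ha.neg (F.root a ha y hy)
        rwa [map_neg] at this
      have h3 := F.root _ (ha.act w).neg _ h2
      have h4 : φ (g * φ y * g⁻¹) = (φ g)⁻¹ * y * φ g := by
        rw [F.mul, F.mul, F.inv, F.invo]; group
      rw [h4, neg_neg] at h3
      have h5 := R.conj_mem' hg (ha.act w) h3
      rw [rep_inv_apply] at h5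
      have h6 : g⁻¹ * ((φ g)⁻¹ * y * φ g) * g = c⁻¹ * y * c := by rw [hc]; group
      rwa [h6] at h5
  have hsup : ∀ Ω : Set (I → ℤ), (∀ x ∈ Ω, IsRoot cs h x) → c ∈ Subgroup.normalizer (RGD.Sup X Ω : Set Y) := by
    intro Ω hΩ
    rw [mem_normalizer_iff_cj, RGD.cj_Sup]
    exact iSup_congr fun z => key' z.1 (hΩ z.1 z.2)
  have hcT : c ∈ T := by
    rw [← B_inf_BN R]
    refine ⟨?_, ?_⟩
    · rw [← Cfsg.Agent.Nodes.NormalForm.normalizer_U R]
      exact ⟨hsup _ fun x hx => hx.1, hcG⟩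
    · exact Cfsg.Agent.Nodes.ClsPair.normalizer_UN R ⟨hsup _ fun x hx => hx.1, hcG⟩
  have h1 : φ g = c * g⁻¹ := by rw [hc]; group
  rw [h1]
  have h2 := (rp_of_mem (cs := cs) (hN := R.nsys) hcT).mul hg.inv
  rwa [one_mul] at h2

end Anti

end Cfsg.Agent.H92.GG
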