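import Cfsg.Agent.H92.GG.Anti
import Cfsg.Agent.H466.T3.Gelfand

/-!
# Gelfand–Graev characters are multiplicity free (S4884, helper92)

`R : RGD cs h p T n X`, `J : Set I`, `ψ` a nondegenerate linear character of `U_J` (trivial on the root groups of the
non-simple positive roots of `J`, nontrivial on `X α_i`, `i ∈ J`), `φ` an involutive anti-automorphism exchanging opposite
root groups and trivial on `T`, `T` abelian.

* `fix` : `f = s φ(·) s⁻¹` fixes the elements of `N` compatible with `ψ`, if `T` has odd order;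
* `mult_le_one` : `[χ|U_J, ψ] ≤ 1` for the irreducible characters `χ` of `L_J`.
-/

set_option autoImplicit false
set_option linter.unusedSectionVars false

open Cfsg

namespace Cfsg.Agent.H92.GG

open CoxeterSystem Cfsg.Agent.ChevalleyStructure.CoxeterGeom Cfsg.Agent.Tits.Roots Cfsg.Agent.Tits.Core
  Cfsg.Agent.Tits.Exchange Cfsg.Agent.Nodes.Reps Cfsg.Agent.Nodes.BNOf Cfsg.Agent.Nodes.StabComb
  Cfsg.Agent.Nodes.Bruhat Cfsg.Agent.Nodes.OppDec Cfsg.Agent.Nodes.LeviDec Cfsg.Agent.H53.HC Cfsg.Agent.H641.Gow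

variable {I W Y : Type*} [Fintype I] [DecidableEq I] [Group W] [Group Y] {M : CoxeterMatrix I}
  {cs : CoxeterSystem M W} {A : I → I → ℤ} {h : IsCartan M A} {p : ℕ} {T : Subgroup Y} {n : I → Y}
  {X : (I → ℤ) → Subgroup Y}

/-- a nondegenerate linear character of `U_J` (a function on the whole group, multiplicative on `U_J`) -/
structure Nondeg (cs : CoxeterSystem M W) (h : IsCartan M A) (X : (I → ℤ) → Subgroup Y) (J : Set I)
    (ψ : Y → ℂˣ) : Prop where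
  mul : ∀ x ∈ UJ cs h X J, ∀ y ∈ UJ cs h X J, ψ (x * y) = ψ x * ψ y
  high : ∀ a ∈ PosJ cs h J, (∀ i, a ≠ sr i) → ∀ x ∈ X a, ψ x = 1
  simple : ∀ i ∈ J, ∃ x ∈ X (sr i), ψ x ≠ 1

/-- an element of `T` fixing the restriction of `ψ` to `X α_i` centralises `X α_i`. -/
def Rigid (T : Subgroup Y) (X : (I → ℤ) → Subgroup Y) (J : Set I) (ψ : Y → ℂˣ) : Prop :=
  ∀ i ∈ J, ∀ t ∈ T, (∀ x ∈ X (sr i), ψ (t * x * t⁻¹) = ψ x) → ∀ x ∈ X (sr i), Commute t x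

theorem X_le_UJ {J : Set I} {a : I → ℤ} (ha : a ∈ PosJ cs h J) : X a ≤ UJ cs h X J := RGD.le_Sup ha

namespace Nondeg

variable {J : Set I} {ψ : Y → ℂˣ} (N : Nondeg cs h X J ψ)

include N

theorem one : ψ 1 = 1 := by
  have := N.mul 1 (one_mem _) 1 (one_mem _)
  rw [mul_one] at this
  exact (left_eq_mul.1 this)

theorem inv {x : Y} (hx : x ∈ UJ cs h X J) : ψ x⁻¹ = (ψ x)⁻¹ := by
  rw [eq_inv_iff_mul_eq_one, ← N.mul _ (inv_mem hx) _ hx, inv_mul_cancel, N.one]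

theorem conj {x y : Y} (hx : x ∈ UJ cs h X J) (hy : y ∈ UJ cs h X J) : ψ (x * y * x⁻¹) = ψ y := by
  rw [N.mul _ (mul_mem hx hy) _ (inv_mem hx), N.mul _ hx _ hy, N.inv hx, mul_comm (ψ x), mul_inv_cancel_right]

end Nondeg

section

variable (R : RGD cs h p T n X) {φ : Y → Y} (F : Anti cs h T X φ) {J : Set I} {v : W} (hv : IsLongest cs J v) {s : Y}
  (hs : Rp cs R.nsys v s)

omit [Fintype I] [DecidableEq I] [Group W] in
/-- the anti-automorphism `s φ(·) s⁻¹` -/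
def ff (φ : Y → Y) (s x : Y) : Y := s * φ x * s⁻¹

include F

theorem ff_mul (x y : Y) : ff φ s (x * y) = ff φ s y * ff φ s x := by
  unfold ff
  rw [F.mul]; group

theorem ff_inv (x : Y) : ff φ s x⁻¹ = (ff φ s x)⁻¹ := by
  unfold ff
  rw [F.inv]; group

theorem ff_ff (x : Y) : ff φ s (ff φ s x) = (s * (φ s)⁻¹) * x * (s * (φ s)⁻¹)⁻¹ := by
  unfold ff
  rw [F.mul, F.mul, F.inv, F.invo]; group

include R hs

theorem ff_root {a : I → ℤ} (ha : IsRoot cs h a) {x : Y} (hx : x ∈ X a) : ff φ s x ∈ X (-rep cs h v a) := by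
  have := R.conj_mem hs ha.neg (F.root a ha x hx)
  rwa [map_neg] at this

theorem ff_rp [Finite W] {w : W} {g : Y} (hg : Rp cs R.nsys w g) : Rp cs R.nsys (v * w⁻¹ * v⁻¹) (ff φ s g) :=
  (hs.mul (F.rp R hg)).mul hs.inv

include hv

theorem ff_c [Finite W] : s * (φ s)⁻¹ ∈ T := by
  have h1 := hs.mul (F.rp R hs).inv
  rw [inv_inv, hv.mul_self] at h1
  exact h1.mem_of_one

theorem ff_UJ [Finite W] {x : Y} (hx : x ∈ UJ cs h X J) : ff φ s x ∈ UJ cs h X J := by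
  have h1 := F.map_Sup (S := PosJ cs h J) (S' := {a | -a ∈ PosJ cs h J}) (fun a ha => ⟨ha.1, by
    change - -a ∈ PosJ cs h J
    rwa [neg_neg]⟩) hx
  refine conj_mem_Sup R hs (S := {a | -a ∈ PosJ cs h J}) (S' := PosJ cs h J) (fun a ha => ?_) (fun a ha => ?_) h1
  · have h2 : IsRoot cs h (-a) := ha.1
    have := h2.neg
    rwa [neg_neg] at this
  · have h2 := neg_longest_mem hv ha
    rwa [map_neg, neg_neg] at h2

/-- **`f` fixes the compatible elements of `N`.** -/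
theorem fix [Finite W] (hTc : ∀ a ∈ T, ∀ b ∈ T, Commute a b) (hT2 : ∀ z ∈ T, z * z = 1 → z = 1) {ψ : Y → ℂˣ}
    (N : Nondeg cs h X J ψ) (hrig : Rigid T X J ψ) (hf : ∀ u ∈ UJ cs h X J, ψ (ff φ s u) = ψ u) {w : W}
    (hw : w ∈ WJ cs J) {g : Y} (hg : Rp cs R.nsys w g)
    (hcomp : ∀ i ∈ J, 0 ≤ rep cs h w (sr i) → ∀ x ∈ X (sr i), ψ (g * x * g⁻¹) = ψ x) : ff φ s g = g := by
  classical
  -- `w = w_J w_K`
  have hsimple : ∀ i ∈ J, 0 ≤ rep cs h w (sr i) → ∃ k, rep cs h w (sr i) = sr k := by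
    intro i hi h0
    by_contra hcon
    push Not at hcon
    obtain ⟨x, hx, hx1⟩ := N.simple i hi
    have h1 : g * x * g⁻¹ ∈ X (rep cs h w (sr i)) := R.conj_mem hg (isRoot_sr cs h i) hx
    have h2 : rep cs h w (sr i) ∈ PosJ cs h J :=
      ⟨(isRoot_sr cs h i).act w, h0, fun k hk => supp_rep hw hi hk⟩
    exact hx1 (by rw [← hcomp i hi h0 x hx, N.high _ h2 hcon _ h1])
  obtain ⟨u, hu⟩ := exists_isLongest cs {i | i ∈ J ∧ 0 ≤ rep cs h w (sr i)}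
  have hwe := eq_longest_mul hw hsimple hv hu
  obtain ⟨K, hK⟩ : ∃ K : Set I, K = {i | i ∈ J ∧ 0 ≤ rep cs h w (sr i)} := ⟨_, rfl⟩
  rw [← hK] at hu
  have hKJ : K ⊆ J := fun i hi => by rw [hK] at hi; exact hi.1
  have hvv : v * v = 1 := hv.mul_self
  have huu : u * u = 1 := hu.mul_self
  have hvi : v⁻¹ = v := hv.inv_eq
  have hui : u⁻¹ = u := hu.inv_eq
  -- `f g` represents `w`
  have hfg : Rp cs R.nsys w (ff φ s g) := by
    have h1 := ff_rp R F hs hg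
    have e : v * w⁻¹ * v⁻¹ = w := by
      rw [hwe, mul_inv_rev, hvi, hui]
      calc v * (u * v) * v = v * u * (v * v) := by group
        _ = v * u := by rw [hvv, mul_one]
    rwa [e] at h1
  obtain ⟨z, hz⟩ : ∃ z, z = g⁻¹ * ff φ s g := ⟨_, rfl⟩
  have hzT : z ∈ T := by rw [hz]; exact hg.unique hfg
  have hgz : ff φ s g = g * z := by rw [hz]; group
  -- `z` centralises `X α_j`, `j ∈ K`
  have hzK : ∀ j ∈ K, ∀ x ∈ X (sr j), Commute z x := by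
    intro j hj
    refine hrig j (hKJ hj) z hzT ?_
    intro x hx
    have hj' : j ∈ J ∧ 0 ≤ rep cs h w (sr j) := by rw [hK] at hj; exact hj
    -- the simple root `α_i = -w_K α_j`
    obtain ⟨i, hi, ei⟩ := neg_longest_sr (h := h) hu hj
    have hi' : i ∈ J ∧ 0 ≤ rep cs h w (sr i) := by rw [hK] at hi; exact hi
    have hcT := ff_c R F hv hs
    obtain ⟨c, hc⟩ : ∃ c, c = s * (φ s)⁻¹ := ⟨_, rfl⟩
    rw [← hc] at hcT
    -- `y = f (c⁻¹ x c)`, so `f y = x`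
    obtain ⟨y, hy⟩ : ∃ y, y = ff φ s (c⁻¹ * x * c) := ⟨_, rfl⟩
    have hxc : c⁻¹ * x * c ∈ X (sr j) := by
      have h1 := R.tor _ (isRoot_sr cs h j) c hcT
      rw [← h1] at hx
      exact mem_cj.1 hx
    have hfy : ff φ s y = x := by
      rw [hy, ff_ff F, ← hc]; group
    have hyX : y ∈ X (-rep cs h v (sr j)) := by rw [hy]; exact ff_root R F hs (isRoot_sr cs h j) hxc
    -- `w α_i = - v α_j`
    have hwi : rep cs h w (sr i) = -rep cs h v (sr j) := by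
      rw [← ei, hwe, map_neg, ← rep_mul_apply]
      have : v * u * u = v := by rw [mul_assoc, huu, mul_one]
      rw [this]
    have hyU : y ∈ UJ cs h X J := X_le_UJ (neg_longest_mem hv (sr_mem_PosJ hj'.1)) hyX
    -- `t = g⁻¹ y g ∈ X α_i`
    have hgy : g⁻¹ * y * g ∈ X (sr i) := by
      have h1 : IsRoot cs h (-rep cs h v (sr j)) := ((isRoot_sr cs h j).act v).neg
      have := R.conj_mem' hg h1 hyX
      rwa [← hwi, rep_inv_apply] at this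
    have h1 : ψ y = ψ (g⁻¹ * y * g) := by
      have := hcomp i hi'.1 hi'.2 _ hgy
      rw [← this]
      congr 1
      group
    -- `f (g⁻¹ y g) = f g (f y) (f g)⁻¹`
    have h2 : ff φ s (g⁻¹ * y * g) = ff φ s g * x * (ff φ s g)⁻¹ := by
      rw [ff_mul F, ff_mul F, ff_inv F, hfy]; group
    have h3 : ψ (ff φ s g * x * (ff φ s g)⁻¹) = ψ x := by
      rw [← h2, hf _ (X_le_UJ (sr_mem_PosJ hi'.1) hgy), ← h1, ← hf y hyU, hfy]
    rw [hgz] at h3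
    have hzx : z * x * z⁻¹ ∈ X (sr j) := by
      have h1 := R.tor _ (isRoot_sr cs h j) z hzT
      rw [← h1]
      exact conj_mem_cj.2 hx
    have h4 := hcomp j hj'.1 hj'.2 _ hzx
    rw [← h4, ← h3]
    congr 1
    group
  -- `c` commutes with `L_J`
  have hcT := ff_c R F hv hs
  have hcJ : ∀ j ∈ J, ∀ x ∈ X (sr j), Commute (s * (φ s)⁻¹) x := by
    intro j hj
    refine hrig j hj _ hcT fun x hx => ?_
    have hxU : x ∈ UJ cs h X J := X_le_UJ (sr_mem_PosJ hj) hx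
    rw [← ff_ff F, hf _ (ff_UJ R F hv hs hxU), hf _ hxU]
  have h1 : ff φ s (ff φ s g) = g := by
    rw [ff_ff F, (comm_rp R hTc hcT hcJ hw hg).eq, mul_inv_cancel_right]
  -- `f (g z) = f z f g = s z s⁻¹ g z`
  have h2 : ff φ s (ff φ s g) = s * z * s⁻¹ * (g * z) := by
    rw [hgz, ff_mul F, hgz]
    congr 1
    unfold ff
    rw [F.tor z hzT]
  have h3 : Commute z (g⁻¹ * s) := by
    refine comm_rp R hTc hzT hzK (w := u) hu.1 ?_
    have h4 := hg.inv.mul hs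
    have e : w⁻¹ * v = u := by rw [hwe, mul_inv_rev, hui, inv_mul_cancel_right]
    rwa [e] at h4
  have h4 : z * z = 1 := by
    rw [h1] at h2
    have h5 : g⁻¹ * (s * z * s⁻¹ * (g * z)) = 1 := by rw [← h2, inv_mul_cancel]
    have h6 : g⁻¹ * (s * z * s⁻¹ * (g * z)) = (g⁻¹ * s) * z * (g⁻¹ * s)⁻¹ * z := by group
    rw [h6, ← h3.eq, mul_inv_cancel_right] at h5
    exact h5
  rw [hgz, hT2 z hzT h4, mul_one]

end

/-! ### The multiplicity one theorem -/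

section

variable (R : RGD cs h p T n X) {φ : Y → Y} (F : Anti cs h T X φ) {J : Set I}

include R F

/-- **Multiplicity one** if `s φ(·) s⁻¹` fixes the elements of `N` compatible with `ψ`. -/
theorem mult_of_fix [Finite W] [Fintype Y] {ψ : Y → ℂˣ} (N : Nondeg cs h X J ψ)
    (hfix : ∀ (v : W) (s : Y), IsLongest cs J v → Rp cs R.nsys v s → (∀ u ∈ UJ cs h X J, ψ (ff φ s u) = ψ u) →
      ∀ (w : W) (g : Y), w ∈ WJ cs J → Rp cs R.nsys w g →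
        (∀ i ∈ J, 0 ≤ rep cs h w (sr i) → ∀ x ∈ X (sr i), ψ (g * x * g⁻¹) = ψ x) → ff φ s g = g)
    (htr : ∀ ψ' : Y → ℂˣ, Nondeg cs h X J ψ' → ∃ t ∈ T, ∀ u ∈ UJ cs h X J, ψ' u = ψ (t * u * t⁻¹))
    [Fintype ↥(LJ cs h T X J)] [Fintype ↥(UJ cs h X J)] {χ : ↥(LJ cs h T X J) → ℂ} (hχ : IsIrrCharacter _ χ) :
    classInner (fun u : ↥(UJ cs h X J) => χ ⟨u, BJ_le_LJ (UJ_le_BJ u.2)⟩) (fun u => (ψ (u : Y) : ℂ)) = 0 ∨
      classInner (fun u : ↥(UJ cs h X J) => χ ⟨u, BJ_le_LJ (UJ_le_BJ u.2)⟩) (fun u => (ψ (u : Y) : ℂ)) = 1 := by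
  classical
  obtain ⟨v, hv⟩ := exists_isLongest cs J
  obtain ⟨k, hk⟩ := exists_rp cs R.nsys v
  -- choice of `s`
  have hN' : Nondeg cs h X J (fun x => ψ (ff φ k x)) := by
    refine ⟨fun x hx y hy => ?_, fun a ha hna x hx => ?_, fun i hi => ?_⟩
    · rw [ff_mul F, N.mul _ (ff_UJ R F hv hk hy) _ (ff_UJ R F hv hk hx), mul_comm]
    · refine N.high _ (neg_longest_mem hv ha) (fun i e => ?_) _ (ff_root R F hk ha.1 hx)
      have hi : i ∈ J := by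
        by_contra hi
        have h1 := (neg_longest_mem hv ha).2.2 i hi
        rw [e, sr_self] at h1
        exact one_ne_zero h1
      obtain ⟨l, -, hl⟩ := neg_longest_sr (h := h) hv hi
      refine hna l ?_
      rw [← hl, ← e, map_neg, neg_neg, ← rep_mul_apply, hv.mul_self, map_one, Module.End.one_apply]
    · obtain ⟨l, hl, el⟩ := neg_longest_sr (h := h) hv hi
      obtain ⟨x, hx, hx1⟩ := N.simple l hl
      have hcT := ff_c R F hv hk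
      obtain ⟨c, hc⟩ : ∃ c, c = k * (φ k)⁻¹ := ⟨_, rfl⟩
      rw [← hc] at hcT
      have hxc : c⁻¹ * x * c ∈ X (sr l) := by
        have h1 := R.tor _ (isRoot_sr cs h l) c hcT
        rw [← h1] at hx
        exact mem_cj.1 hx
      refine ⟨ff φ k (c⁻¹ * x * c), ?_, ?_⟩
      · have h1 := ff_root R F hk (isRoot_sr cs h l) hxc
        have e : -rep cs h v (sr l) = sr i := by
          rw [← el, map_neg, neg_neg, ← rep_mul_apply, hv.mul_self, map_one, Module.End.one_apply]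
        rwa [e] at h1
      · rw [ff_ff F, ← hc]
        have e : c * (c⁻¹ * x * c) * c⁻¹ = x := by group
        rwa [e]
  obtain ⟨t, ht, htu⟩ := htr _ hN'
  obtain ⟨s, hs⟩ : ∃ s, s = k * t := ⟨_, rfl⟩
  have hsR : Rp cs R.nsys v s := by rw [hs]; exact hk.mul_mem_right ht
  have hf : ∀ u ∈ UJ cs h X J, ψ (ff φ s u) = ψ u := by
    intro u hu
    have htU : t⁻¹ * u * t ∈ UJ cs h X J := by
      have := R.T_le_normalizer (S := PosJ cs h J) (fun x hx => hx.1) (inv_mem ht)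
      have := (Subgroup.mem_normalizer_iff.1 this u).1 hu
      rwa [inv_inv] at this
    have h1 := htu _ htU
    have e1 : t * (t⁻¹ * u * t) * t⁻¹ = u := by group
    rw [e1] at h1
    rw [← h1]
    change ψ (ff φ s u) = ψ (ff φ k (t⁻¹ * u * t))
    congr 1
    unfold ff
    rw [F.mul, F.mul, F.tor _ ht, F.tor _ (inv_mem ht), hs]
    group
  -- Gelfand's trick
  have hmL : ∀ {x : Y}, x ∈ LJ cs h T X J → ff φ s x ∈ LJ cs h T X J := fun hx =>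
    mul_mem (mul_mem (rp_mem_LJ R hv.1 hsR) (F.map_LJ hx)) (inv_mem (rp_mem_LJ R hv.1 hsR))
  let ι : ↥(UJ cs h X J) →* ↥(LJ cs h T X J) := Subgroup.inclusion (le_trans UJ_le_BJ BJ_le_LJ)
  let Ψ : ↥(UJ cs h X J) →* ℂˣ :=
    { toFun := fun u => ψ u
      map_one' := N.one
      map_mul' := fun a b => N.mul _ a.2 _ b.2 }
  let τ : ↥(LJ cs h T X J) → ↥(LJ cs h T X J) := fun x => ⟨ff φ s x, hmL x.2⟩
  have hinj : Function.Injective (fun u : ↥(UJ cs h X J) => (⟨ff φ s u, ff_UJ R F hv hsR u.2⟩ : ↥(UJ cs h X J))) := by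
    intro a b e
    have e1 : ff φ s a = ff φ s b := congrArg Subtype.val e
    apply Subtype.ext
    unfold ff at e1
    exact F.injective (mul_left_cancel (mul_right_cancel e1))
  let σ : ↥(UJ cs h X J) ≃ ↥(UJ cs h X J) := Equiv.ofBijective _ (Finite.injective_iff_bijective.1 hinj)
  have hG := Cfsg.Agent.H466.T3.Gelfand.mult_le_one ι Ψ τ σ (fun x y => Subtype.ext (ff_mul F _ _))
    (fun a => rfl) (fun a => hf a a.2) ?_ hχ
  · exact hG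
  intro g
  obtain ⟨w, hw, b₁, hb₁, m, hm, b₂, hb₂, hgm⟩ := exists_cellJ R g.2
  -- `g = u₁ m' u₂`
  obtain ⟨u₁, hu₁, m', hm', u₂, hu₂, e⟩ : ∃ u₁ ∈ UJ cs h X J, ∃ m', Rp cs R.nsys w m' ∧ ∃ u₂ ∈ UJ cs h X J,
      (g : Y) = u₁ * m' * u₂ := by
    have hN1 : T ≤ Subgroup.normalizer (UJ cs h X J : Set Y) := R.T_le_normalizer (fun x hx => hx.1)
    have hB1 : b₁ ∈ UJ cs h X J ⊔ T := by rw [sup_comm]; exact hb₁
    have hB2 : b₂ ∈ T ⊔ UJ cs h X J := hb₂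
    have e1 : b₁ ∈ ((UJ cs h X J ⊔ T : Subgroup Y) : Set Y) := hB1
    rw [Subgroup.coe_mul_of_right_le_normalizer_left _ _ hN1, Set.mem_mul] at e1
    have e2 : b₂ ∈ ((T ⊔ UJ cs h X J : Subgroup Y) : Set Y) := hB2
    rw [Subgroup.coe_mul_of_left_le_normalizer_right _ _ hN1, Set.mem_mul] at e2
    obtain ⟨u₁, hu₁, t₁, ht₁, rfl⟩ := e1
    obtain ⟨t₂, ht₂, u₂, hu₂, rfl⟩ := e2
    refine ⟨u₁, hu₁, t₁ * m * t₂, ?_, u₂, hu₂, ?_⟩
    · have := ((rp_of_mem (cs := cs) (hN := R.nsys) ht₁).mul hm).mul_mem_right ht₂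
      rwa [one_mul] at this
    · rw [hgm]; group
  by_cases hcomp : ∀ i ∈ J, 0 ≤ rep cs h w (sr i) → ∀ x ∈ X (sr i), ψ (m' * x * m'⁻¹) = ψ x
  · left
    have hfix := hfix v s hv hsR hf w m' hw hm' hcomp
    have hfu₁ := ff_UJ R F hv hsR hu₁
    have hfu₂ := ff_UJ R F hv hsR hu₂
    refine ⟨⟨ff φ s u₂ * u₁⁻¹, mul_mem hfu₂ (inv_mem hu₁)⟩, ⟨u₂⁻¹ * ff φ s u₁, mul_mem (inv_mem hu₂) hfu₁⟩, ?_, ?_⟩
    · apply Subtype.ext
      change ff φ s (g : Y) = (ff φ s u₂ * u₁⁻¹) * (g : Y) * (u₂⁻¹ * ff φ s u₁)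
      rw [e, ff_mul F, ff_mul F, hfix]
      group
    · change ψ (ff φ s u₂ * u₁⁻¹) * ψ (u₂⁻¹ * ff φ s u₁) = 1
      rw [N.mul _ hfu₂ _ (inv_mem hu₁), N.mul _ (inv_mem hu₂) _ hfu₁, N.inv hu₁, N.inv hu₂, hf _ hu₁, hf _ hu₂]
      rw [mul_comm (ψ u₂)⁻¹, mul_mul_mul_comm, ← mul_inv_rev, mul_inv_cancel]
  · right
    push Not at hcomp
    obtain ⟨i, hi, h0, x, hx, hne⟩ := hcomp
    have hxU : x ∈ UJ cs h X J := X_le_UJ (sr_mem_PosJ hi) hx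
    have hmU : m' * x * m'⁻¹ ∈ UJ cs h X J :=
      X_le_UJ (cs := cs) (h := h) ⟨(isRoot_sr cs h i).act w, h0, fun k hk => supp_rep hw hi hk⟩
        (R.conj_mem hm' (isRoot_sr cs h i) hx)
    refine ⟨⟨u₁ * (m' * x * m'⁻¹) * u₁⁻¹, mul_mem (mul_mem hu₁ hmU) (inv_mem hu₁)⟩,
      ⟨u₂⁻¹ * x * u₂⁻¹⁻¹, mul_mem (mul_mem (inv_mem hu₂) hxU) (inv_mem (inv_mem hu₂))⟩, ?_, ?_⟩
    · apply Subtype.ext
      change u₁ * (m' * x * m'⁻¹) * u₁⁻¹ * (g : Y) = (g : Y) * (u₂⁻¹ * x * u₂⁻¹⁻¹)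
      rw [e]
      group
    · change ψ (u₁ * (m' * x * m'⁻¹) * u₁⁻¹) ≠ ψ (u₂⁻¹ * x * u₂⁻¹⁻¹)
      rw [N.conj hu₁ hmU, N.conj (inv_mem hu₂) hxU]
      exact hne

/-- **Multiplicity one** (functions on the whole group). -/
theorem mult_le_one' [Finite W] [Fintype Y] (hTc : ∀ a ∈ T, ∀ b ∈ T, Commute a b)
    (hT2 : ∀ z ∈ T, z * z = 1 → z = 1) {ψ : Y → ℂˣ} (N : Nondeg cs h X J ψ) (hrig : Rigid T X J ψ)
    (htr : ∀ ψ' : Y → ℂˣ, Nondeg cs h X J ψ' → ∃ t ∈ T, ∀ u ∈ UJ cs h X J, ψ' u = ψ (t * u * t⁻¹))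
    [Fintype ↥(LJ cs h T X J)] [Fintype ↥(UJ cs h X J)] {χ : ↥(LJ cs h T X J) → ℂ} (hχ : IsIrrCharacter _ χ) :
    classInner (fun u : ↥(UJ cs h X J) => χ ⟨u, BJ_le_LJ (UJ_le_BJ u.2)⟩) (fun u => (ψ (u : Y) : ℂ)) = 0 ∨
      classInner (fun u : ↥(UJ cs h X J) => χ ⟨u, BJ_le_LJ (UJ_le_BJ u.2)⟩) (fun u => (ψ (u : Y) : ℂ)) = 1 :=
  mult_of_fix R F N (fun _ _ hv hsR hf _ _ hw hm' hcomp => fix R F hv hsR hTc hT2 N hrig hf hw hm' hcomp) htr hχ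

/-- the function on the whole group defined by a linear character of a subgroup -/
noncomputable def ext (U : Subgroup Y) (ψ : ↥U →* ℂˣ) (y : Y) : ℂˣ := by
  classical
  exact if hy : y ∈ U then ψ ⟨y, hy⟩ else 1

omit F R in
theorem ext_of_mem {U : Subgroup Y} (ψ : ↥U →* ℂˣ) {y : Y} (hy : y ∈ U) : ext U ψ y = ψ ⟨y, hy⟩ := by
  unfold ext
  rw [dif_pos hy]

omit F R in
theorem nondeg_ext (ψ : ↥(UJ cs h X J) →* ℂˣ)
    (hhigh : ∀ a (ha : a ∈ PosJ cs h J), (∀ i, a ≠ sr i) → ∀ x (hx : x ∈ X a), ψ ⟨x, X_le_UJ ha hx⟩ = 1)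
    (hsimple : ∀ i (hi : i ∈ J), ∃ x, ∃ hx : x ∈ X (sr i), ψ ⟨x, X_le_UJ (sr_mem_PosJ hi) hx⟩ ≠ 1) :
    Nondeg cs h X J (ext _ ψ) := by
  refine ⟨fun x hx y hy => ?_, fun a ha hna x hx => ?_, fun i hi => ?_⟩
  · rw [ext_of_mem ψ hx, ext_of_mem ψ hy, ext_of_mem ψ (mul_mem hx hy), ← map_mul]
    rfl
  · rw [ext_of_mem ψ (X_le_UJ ha hx)]
    exact hhigh a ha hna x hx
  · obtain ⟨x, hx, hx1⟩ := hsimple i hi
    refine ⟨x, hx, ?_⟩
    rwa [ext_of_mem ψ (X_le_UJ (sr_mem_PosJ hi) hx)]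

/-- **Multiplicity one**, linear characters of `U_J` as homomorphisms. -/
theorem mult_le_one [Finite W] [Fintype Y] (hTc : ∀ a ∈ T, ∀ b ∈ T, Commute a b)
    (hT2 : ∀ z ∈ T, z * z = 1 → z = 1) (ψ : ↥(UJ cs h X J) →* ℂˣ)
    (hhigh : ∀ a (ha : a ∈ PosJ cs h J), (∀ i, a ≠ sr i) → ∀ x (hx : x ∈ X a), ψ ⟨x, X_le_UJ ha hx⟩ = 1)
    (hsimple : ∀ i (hi : i ∈ J), ∃ x, ∃ hx : x ∈ X (sr i), ψ ⟨x, X_le_UJ (sr_mem_PosJ hi) hx⟩ ≠ 1)
    (hrig : Rigid T X J (ext _ ψ))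
    (htr : ∀ ψ' : Y → ℂˣ, Nondeg cs h X J ψ' → ∃ t ∈ T, ∀ u ∈ UJ cs h X J, ψ' u = ext _ ψ (t * u * t⁻¹))
    [Fintype ↥(LJ cs h T X J)] [Fintype ↥(UJ cs h X J)] {χ : ↥(LJ cs h T X J) → ℂ} (hχ : IsIrrCharacter _ χ) :
    classInner (fun u : ↥(UJ cs h X J) => χ ⟨u, BJ_le_LJ (UJ_le_BJ u.2)⟩) (fun u => (ψ u : ℂ)) = 0 ∨
      classInner (fun u : ↥(UJ cs h X J) => χ ⟨u, BJ_le_LJ (UJ_le_BJ u.2)⟩) (fun u => (ψ u : ℂ)) = 1 := by
  have N := nondeg_ext ψ hhigh hsimple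
  have h1 := mult_le_one' R F hTc hT2 N hrig htr hχ
  have e : (fun u : ↥(UJ cs h X J) => ((ext (UJ cs h X J) ψ (u : Y) : ℂˣ) : ℂ)) = fun u => (ψ u : ℂ) := by
    funext u
    rw [ext_of_mem ψ u.2]
  rwa [e] at h1

end

end Cfsg.Agent.H92.GG
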