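import Cfsg.Agent.H641.Gow.Rgd

/-!
# Weyl group elements `w_J w_K` (S4884, helper92)

`w ∈ W_J` such that every `w α_i ≥ 0` (`i ∈ J`) is a simple root: `w = w_J w_K`, `K = {i ∈ J : w α_i ≥ 0}`.
-/

set_option autoImplicit false
set_option linter.unusedSectionVars false

namespace Cfsg.Agent.H92.GG

open CoxeterSystem Cfsg.Agent.ChevalleyStructure.CoxeterGeom Cfsg.Agent.Tits.Roots Cfsg.Agent.Tits.Core
  Cfsg.Agent.Tits.Exchange Cfsg.Agent.Nodes.Reps Cfsg.Agent.Nodes.BNOf Cfsg.Agent.Nodes.StabComb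
  Cfsg.Agent.Nodes.Bruhat Cfsg.Agent.Nodes.OppDec Cfsg.Agent.Nodes.LeviDec Cfsg.Agent.H53.HC Cfsg.Agent.H641.Gow

variable {I W : Type*} [Fintype I] [DecidableEq I] [Group W] {M : CoxeterMatrix I}
  {cs : CoxeterSystem M W} {A : I → I → ℤ} {h : IsCartan M A}

theorem WJ_mono' {J K : Set I} (hK : K ⊆ J) : WJ cs K ≤ WJ cs J := by
  unfold WJ
  exact Subgroup.closure_mono (Set.image_mono hK)

theorem supp_rep {J : Set I} {w : W} (hw : w ∈ WJ cs J) {i : I} (hi : i ∈ J) {k : I} (hk : k ∉ J) :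
    rep cs h w (sr i) k = 0 := by
  rw [rep_WJ_apply hw _ hk, sr_ne (fun e => hk (by rw [e]; exact hi))]

/-- elements of `W_J` map the positive roots of `J` to roots of `J`. -/
theorem act_RootsJ {J : Set I} {w : W} (hw : w ∈ WJ cs J) {x : I → ℤ} (hx : x ∈ RootsJ cs h J) :
    rep cs h w x ∈ RootsJ cs h J :=
  ⟨hx.1.act w, fun k hk => by rw [rep_WJ_apply hw _ hk, hx.2 k hk]⟩

theorem PosJ_mono {J K : Set I} (hK : K ⊆ J) : PosJ cs h K ⊆ PosJ cs h J :=
  fun _ hx => ⟨hx.1, hx.2.1, fun k hk => hx.2.2 k fun h1 => hk (hK h1)⟩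

/-- `-w_J` permutes the positive roots of `J`. -/
theorem neg_longest_mem [Finite W] {J : Set I} {w : W} (hw : IsLongest cs J w) {x : I → ℤ}
    (hx : x ∈ PosJ cs h J) : -rep cs h w x ∈ PosJ cs h J := by
  refine ⟨(hx.1.act w).neg, neg_nonneg.2 (rep_longest_nonpos hw hx), fun k hk => ?_⟩
  rw [Pi.neg_apply, rep_WJ_apply hw.1 _ hk, hx.2.2 k hk, neg_zero]

/-- `-w_J` maps simple roots of `J` to simple roots of `J`. -/
theorem neg_longest_sr [Finite W] {J : Set I} {w : W} (hw : IsLongest cs J w) {i : I} (hi : i ∈ J) :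
    ∃ k ∈ J, -rep cs h w (sr i) = sr k := by
  have h1 := neg_longest_mem hw (sr_mem_PosJ (cs := cs) (h := h) hi)
  obtain ⟨x, hx⟩ : ∃ x, x = -rep cs h w (sr i) := ⟨_, rfl⟩
  rw [← hx] at h1 ⊢
  have hww : w * w = 1 := hw.mul_self
  have h2 : -rep cs h w x = sr i := by
    rw [hx, map_neg, neg_neg, ← rep_mul_apply, hww, map_one, Module.End.one_apply]
  -- height
  have h3 : ht x ≤ ht (sr i) := by
    have e1 : sr i = ∑ k, x k • -rep cs h w (sr k) := by
      rw [← h2]
      conv_lhs => rw [eq_sum_sr x, map_sum, ← Finset.sum_neg_distrib]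
      exact Finset.sum_congr rfl fun k _ => by rw [map_smul, smul_neg]
    have e2 : ht (sr i) = ∑ k, x k * ht (-rep cs h w (sr k)) := by
      have : ∀ y : I → ℤ, ht y = Cfsg.Agent.H53.HC.htHom y := fun _ => rfl
      conv_lhs => rw [e1]
      simp only [this, map_sum, map_smul, smul_eq_mul]
    rw [e2]
    unfold ht
    refine Finset.sum_le_sum fun k _ => ?_
    by_cases hk : k ∈ J
    · have h4 := neg_longest_mem hw (sr_mem_PosJ (cs := cs) (h := h) hk)
      have h5 : 0 < ht (-rep cs h w (sr k)) := sum_pos h4.2.1 h4.1.ne_zero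
      have h6 : (0 : ℤ) ≤ x k := h1.2.1 k
      unfold ht at h5
      nlinarith
    · rw [h1.2.2 k hk, zero_mul]
  have h4 : ht (sr (I := I) i) = 1 := by
    unfold ht
    simp [sr]
  obtain ⟨k, hk, hk0⟩ := eq_sr_of_ht h1.1 h1.2.1 (by rw [← h4]; exact h3)
  refine ⟨k, ?_, hk⟩
  by_contra hkJ
  rw [h1.2.2 k hkJ] at hk0
  exact lt_irrefl _ hk0

/-- **`w = w_J w_K`.** -/
theorem eq_longest_mul [Finite W] {J : Set I} {w : W} (hw : w ∈ WJ cs J)
    (hs : ∀ i ∈ J, 0 ≤ rep cs h w (sr i) → ∃ k, rep cs h w (sr i) = sr k) {v u : W}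
    (hv : IsLongest cs J v) (hu : IsLongest cs {i | i ∈ J ∧ 0 ≤ rep cs h w (sr i)} u) : w = v * u := by
  set K : Set I := {i | i ∈ J ∧ 0 ≤ rep cs h w (sr i)} with hK
  have hKJ : K ⊆ J := fun i hi => hi.1
  have hwK : ∀ {y : I → ℤ}, 0 ≤ y → (∀ k, k ∉ K → y k = 0) → 0 ≤ rep cs h w y :=
    fun h0 hy => rep_nonneg_of_supp (J := K) (fun i hi => hi.2) h0 hy
  -- all simple roots of `J` become negative
  have key : ∀ i ∈ J, rep cs h (w * u) (sr i) ≤ 0 := by
    intro i hi
    rw [rep_mul_apply]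
    by_cases hiK : i ∈ K
    · have h1 := neg_longest_mem hu (sr_mem_PosJ (cs := cs) (h := h) hiK)
      have h2 := hwK h1.2.1 h1.2.2
      rw [map_neg] at h2
      exact neg_nonneg.1 h2
    · -- `x = u α_i` is a positive root with coefficient one at `i`
      obtain ⟨x, hx⟩ : ∃ x, x = rep cs h u (sr i) := ⟨_, rfl⟩
      rw [← hx]
      have hxr : IsRoot cs h x := by rw [hx]; exact (isRoot_sr cs h i).act u
      rcases (hxr.act w).pos_or_neg with h1 | h1
      swap
      · exact h1
      exfalso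
      have hxK : ∀ k, k ∉ K → x k = sr i k := fun k hk => by rw [hx, rep_WJ_apply hu.1 _ hk]
      have hni : rep cs h w (sr i) ≤ 0 := by
        rcases ((isRoot_sr cs h i).act w).pos_or_neg with h2 | h2
        · exact absurd ⟨hi, h2⟩ hiK
        · exact h2
      -- `x = α_i + z`, `z` supported on `K`
      have e1 : rep cs h w x = rep cs h w (sr i) + ∑ k, (x k - sr i k) • rep cs h w (sr k) := by
        have e2 : x = sr i + ∑ k, (x k - sr i k) • sr k := by
          rw [← eq_sum_sr (fun k => x k - sr i k)]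
          funext k
          simp
        conv_lhs => rw [e2, map_add, map_sum]
        congr 1
        exact Finset.sum_congr rfl fun k _ => by rw [map_smul]
      -- the nodes `K' = w K`
      by_cases hc : ∀ l, (∀ k ∈ K, rep cs h w (sr k) ≠ sr l) → rep cs h w (sr i) l = 0
      · -- then `w α_i` is a combination of `w K`
        have h3 : rep cs h w⁻¹ (rep cs h w (sr i)) i = 0 := by
          conv_lhs => rw [eq_sum_sr (rep cs h w (sr i)), map_sum, Finset.sum_apply]
          refine Finset.sum_eq_zero fun l _ => ?_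
          rw [map_smul, Pi.smul_apply, smul_eq_mul]
          by_cases hl : ∀ k ∈ K, rep cs h w (sr k) ≠ sr l
          · rw [hc l hl, zero_mul]
          · push Not at hl
            obtain ⟨k, hk, e⟩ := hl
            rw [← e, rep_inv_apply, sr_ne (fun e => hiK (by rw [e]; exact hk)), mul_zero]
        rw [rep_inv_apply, sr_self] at h3
        exact one_ne_zero h3
      · push Not at hc
        obtain ⟨l, hl, hl0⟩ := hc
        have h3 : rep cs h w x l = rep cs h w (sr i) l := by
          rw [e1, Pi.add_apply, Finset.sum_apply, add_eq_left]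
          refine Finset.sum_eq_zero fun k _ => ?_
          rw [Pi.smul_apply, smul_eq_mul]
          by_cases hk : k ∈ K
          · obtain ⟨m, hm⟩ := hs k hk.1 hk.2
            have h6 : sr m l = 0 := sr_ne (fun e => hl k hk (by rw [hm, e]))
            rw [hm, h6, mul_zero]
          · rw [hxK k hk, sub_self, zero_mul]
        have h4 : rep cs h w (sr i) l < 0 := lt_of_le_of_ne (hni l) hl0
        have h5 : 0 ≤ rep cs h w x l := h1 l
        rw [h3] at h5
        exact absurd h4 (not_lt.2 h5)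
  -- `w u v = 1`
  have h1 : w * u * v = 1 := by
    refine eq_one_of_nonneg (cs := cs) (h := h) fun i => ?_
    have hmem : w * u * v ∈ WJ cs J := mul_mem (mul_mem hw (WJ_mono' hKJ hu.1)) hv.1
    by_cases hi : i ∈ J
    · obtain ⟨k, hk, e⟩ := neg_longest_sr (h := h) hv hi
      have e2 : rep cs h v (sr i) = -sr k := by rw [← e, neg_neg]
      rw [rep_mul_apply, e2, map_neg]
      exact neg_nonneg.2 (key k hk)
    · refine nonneg_of_pos_apply ((isRoot_sr cs h i).act _) (k := i) ?_
      rw [rep_WJ_apply hmem _ hi, sr_self]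
      exact one_pos
  have hvv : v * v = 1 := hv.mul_self
  have huu : u * u = 1 := hu.mul_self
  calc w = (w * u * v) * (v * u) * (u * u)⁻¹ * (u * (v * v)⁻¹ * u⁻¹) := by
        rw [hvv, huu]
        have : w * u * v * (v * u) = w * (u * (v * v) * u) := by group
        rw [this, hvv, mul_one, huu]
        group
    _ = v * u := by rw [h1, hvv, huu]; group

end Cfsg.Agent.H92.GG
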